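import Cfsg.Agent.ThreeTrans.Y342.Config
import Cfsg.Agent.CosetCert.Fi23Order.Main

/-!
# Every group of type M(23) is the presented Fischer group Fi₂₃
-/

set_option autoImplicit false

open Cfsg

universe u

namespace Cfsg.Agent.ThreeTrans.Y342

open Cfsg.Spor Cfsg.Spor.Fi23 Y332

/-- The number of a generator. -/
def num : Gen → ℕ
  | .a => 0
  | .b => 1
  | .c => 2
  | .d => 3
  | .e => 4
  | .f => 5
  | .g => 6
  | .h => 7
  | .i => 8
  | .j => 9

theorem num_cases (x : Gen) : num x = 9 ∨ num x < 9 := by cases x <;> decide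

/-- The edges. -/
def adj10 (x y : ℕ) : Bool :=
  if x = 9 then decide (y = 6) else if y = 9 then decide (x = 6) else adj x y

theorem label_eq (x y : Gen) :
    coxLabel edges x y = if x = y then 1 else if adj10 (num x) (num y) then 3 else 2 := by
  cases x <;> cases y <;> rfl

/-- The word `b c d e f g h` taken by the symmetry avoids `g`. -/
theorem wx'_ne : ∀ x ∈ wx', x < 9 ∧ x ≠ 6 := by decide

theorem ws_lt : ∀ x ∈ pw ws 10, x < 9 := by decide

theorem wθ_eq : wθ = [7, 3, 4, 2, 3, 7, 5, 4, 3, 2] ++ 1 :: [7, 3, 4, 2, 3, 7, 5, 4, 3, 2].reverse :=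
  rfl

variable {G : Type u} [Group G] [Finite G] {D : Set G}

/-- Every group of type M(23) is isomorphic to the presented Fi₂₃, the generators going to members. -/
theorem exists_iso (hD : IsThreeTranspositionGroup D) (hprim : IsPrimitiveUnderConj D)
    (h23 : IsOfTypeM23 G D) : ∃ e : Spor.Fi23 ≃* G, ∀ x : Gen, e (PresentedGroup.of x) ∈ D := by
  have hcls := class_of_primitive hD hprim
  have hM := m23Data hD hprim h23
  obtain ⟨X, _, _, E, hE, hclsE, h22, hcov⟩ := exists_cover23 hD hprim h23
  obtain ⟨-, d₀, hd₀, c₀, hc₀, hnc₀, -⟩ := id h23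
  obtain ⟨n, w, j, hw, hj, hwj, hn, hnw, hnj⟩ := exists_cfg hD hE h22 hcov hd₀ hc₀ hnc₀
  have hr := hn.rels hD
  obtain ⟨χ, ψ, -, hker, hψχ, hψ⟩ := (hcov w hw).maps
  set m : ℕ → X := ψ ∘ n with hm
  have hmc : Cfg E m := ⟨fun x hx => hψ.bij.mapsTo (hnw x hx), fun x hx y hy =>
    (hψ.comm _ (hnw x hx) _ (hnw y hy)).trans (hn.comm x hx y hy)⟩
  have hev : ∀ v : List ℕ, (∀ x ∈ v, x < 9) → ∃ h : ev n v ∈ Subgroup.centralizer ({w} : Set G),
      χ ⟨ev n v, h⟩ = ev m v := by
    intro v
    induction v with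
    | nil => exact fun _ => ⟨one_mem _, map_one χ⟩
    | cons x v ih =>
      intro hv
      simp only [List.mem_cons, forall_eq_or_imp] at hv
      obtain ⟨h, he⟩ := ih hv.2
      have hx : n x ∈ Subgroup.centralizer ({w} : Set G) :=
        Subgroup.mem_centralizer_singleton_iff.2 (hnw x hv.1).2.2.symm.eq
      refine ⟨by rw [ev_cons]; exact mul_mem hx h, ?_⟩
      show χ (⟨n x, hx⟩ * ⟨ev n v, h⟩) = m x * ev m v
      rw [map_mul, he, show m x = χ ⟨n x, hx⟩ from hψχ ⟨n x, hx⟩]
  have hone : ∀ v : List ℕ, (∀ x ∈ v, x < 9) → ev m v = 1 → ev n v = 1 ∨ ev n v = w := by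
    intro v hv h1
    obtain ⟨h, he⟩ := hev v hv
    exact (hker ⟨_, h⟩).1 (he.trans h1)
  -- the relation on `a b c d e f h`
  have hx' : ev n wx' ^ 9 = 1 := by
    rw [← ev_pw]
    refine (hone _ (by decide) (pow_x' hE h22 hmc).1).resolve_right fun h => hwj ?_
    rw [← h]
    have hcm : ∀ v : List ℕ, (∀ x ∈ v, x < 9 ∧ x ≠ 6) → Commute (ev n v) j := by
      intro v
      induction v with
      | nil => exact fun _ => Commute.one_left j
      | cons x v ih =>
        intro hv
        simp only [List.mem_cons, forall_eq_or_imp] at hv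
        rw [ev_cons]
        exact ((hnj x hv.1.1).2 hv.1.2).mul_left (ih hv.2)
    rw [ev_pw]
    exact (hcm wx' wx'_ne).pow_left 9
  -- the spider relation
  have hθD : ev n wθ ∈ D := by
    have hU : ∀ x ∈ [7, 3, 4, 2, 3, 7, 5, 4, 3, 2], x < 9 := by decide
    rw [wθ_eq]
    generalize [7, 3, 4, 2, 3, 7, 5, 4, 3, 2] = U at hU ⊢
    rw [ev_append, ev_cons, ev_reverse hr hU, ← mul_assoc]
    exact hD.2.1 _ _ (hn.mem 1 (by norm_num))
  have hθ : ¬ Commute (n 8) (ev n wθ) := by
    intro h
    obtain ⟨h1, e1⟩ := hev wθ (by decide)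
    refine (moved_theta hE h22 hmc).2 ?_
    rw [← e1, show m 8 = χ ⟨n 8, Subgroup.mem_centralizer_singleton_iff.2 (hnw 8 (by norm_num)).2.2.symm.eq⟩
      from hψχ ⟨n 8, _⟩]
    exact Commute.map (Subtype.ext h.eq) χ
  have ht0 : ev n t0 ^ 3 = 1 := by
    rw [t0, ev_cons]
    exact cube_of_not_commute hD.1 (hn.mem 8 (by norm_num)) hθD hθ
  have hspider : ev n ws ^ 10 = 1 := by
    rw [← ev_pw]
    refine (hone _ ws_lt (by rw [ev_pw]; exact pow_spider hE h22 hmc)).resolve_right fun h => ?_
    have h3 := cube_spider hr (cube_t_of hr ht0)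
    rw [h, mul_self hD.1 hw, one_mul] at h3
    exact ne_one hD.1 hw h3
  set f : Gen → G := fun x => if num x = 9 then j else n (num x) with hf
  have hfD : ∀ x, f x ∈ D := fun x => by
    rcases num_cases x with h | h
    · simp only [hf, h, if_true]; exact hj
    · simp only [hf, if_neg (by omega : num x ≠ 9)]; exact hn.mem _ h
  have hcomm : ∀ x y, Commute (f x) (f y) ↔ (x = y ∨ adj10 (num x) (num y) = false) := by
    intro x y
    have hinj : num x = num y → x = y := by cases x <;> cases y <;> simp [num]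
    rcases num_cases x with hx | hx <;> rcases num_cases y with hy | hy
    · simp [hf, hx, hy, hinj (hx.trans hy.symm), Commute.refl]
    · simp only [hf, hx, if_true, if_neg (by omega : num y ≠ 9), adj10]
      rw [Commute.symm_iff, hnj _ hy]
      have hne : x ≠ y := fun e => by subst e; omega
      simp [hne]
    · simp only [hf, hy, if_true, if_neg (by omega : num x ≠ 9), adj10]
      rw [hnj _ hx]
      have hne : x ≠ y := fun e => by subst e; omega
      simp [hne]
    · simp only [hf, if_neg (by omega : num x ≠ 9), if_neg (by omega : num y ≠ 9), adj10]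
      rw [hn.comm _ hx _ hy]
      refine ⟨Or.inr, ?_⟩
      rintro (rfl | h)
      · cases x <;> first | rfl | simp [num] at hx
      · exact h
  have hrel : ∀ r ∈ coxRelators edges ∪ {r | r ∈ extra}, FreeGroup.lift f r = 1 := by
    rintro r (⟨x, -, y, -, rfl⟩ | hr')
    · rw [map_pow, map_mul, FreeGroup.lift_apply_of, FreeGroup.lift_apply_of, label_eq]
      split_ifs with hxy hadj
      · subst hxy
        rw [pow_one]
        exact mul_self hD.1 (hfD x)
      · refine cube_of_not_commute hD.1 (hfD x) (hfD y) fun h => ?_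
        rcases (hcomm x y).1 h with h | h
        · exact hxy h
        · rw [h] at hadj; simp at hadj
      · have h : Commute (f x) (f y) := (hcomm x y).2 (Or.inr (by simpa using hadj))
        rw [h.mul_pow, pow_two, pow_two, mul_self hD.1 (hfD x), one_mul, mul_self hD.1 (hfD y)]
    · simp only [extra, List.mem_cons, List.not_mem_nil, or_false, Set.mem_ofPred_eq] at hr'
      rcases hr' with rfl | rfl
      · simp only [map_pow, map_mul, FreeGroup.lift_apply_of, hf, num]
        simpa [ev, ws, mul_assoc] using hspider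
      · simp only [map_pow, map_mul, FreeGroup.lift_apply_of, hf, num]
        have hinv : ev n [7, 0, 1, 2, 3, 4, 5] ^ 9 = 1 := by
          rw [show [7, 0, 1, 2, 3, 4, 5] = wx'.reverse from rfl, ev_reverse hr (by decide), inv_pow,
            hx', inv_one]
        have e : n 0 * n 1 * n 2 * n 3 * n 4 * n 5 * n 7 =
            n 7 * ev n [7, 0, 1, 2, 3, 4, 5] * (n 7)⁻¹ := by
          rw [inv_eq_of_mul_eq_one_right (hr.sq 7 (by norm_num))]
          simp only [ev_cons, ev_nil, mul_one, ← mul_assoc]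
          rw [hr.sq 7 (by norm_num), one_mul]
        simp only [show (0 : ℕ) ≠ 9 from by decide, show (1 : ℕ) ≠ 9 from by decide,
          show (2 : ℕ) ≠ 9 from by decide, show (3 : ℕ) ≠ 9 from by decide,
          show (4 : ℕ) ≠ 9 from by decide, show (5 : ℕ) ≠ 9 from by decide,
          show (7 : ℕ) ≠ 9 from by decide, if_false]
        rw [e, conj_pow, hinv, mul_one, mul_inv_cancel]
  set φ := PresentedGroup.toGroup hrel
  have hφ : ∀ x, φ (PresentedGroup.of x) = f x := fun x => PresentedGroup.toGroup.of hrel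
  obtain ⟨hsimp, hcard⟩ := CosetCert.Fi23Order.order_and_simple
  have : IsSimpleGroup Spor.Fi23 := hsimp
  have hinj : Function.Injective φ := by
    rw [← MonoidHom.ker_eq_bot_iff]
    refine (φ.normal_ker.eq_bot_or_eq_top).resolve_right fun h => ?_
    refine ne_one hD.1 (hfD Gen.a) ?_
    have h' : PresentedGroup.of Gen.a ∈ φ.ker := h ▸ Subgroup.mem_top _
    rwa [MonoidHom.mem_ker, hφ] at h'
  have hG : Nat.card G = Nat.card Spor.Fi23 := by
    rw [hcard, card_M23 hD hcls hM hE hclsE h22 hcov hw]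
    norm_num
  have hbij : Function.Bijective φ :=
    (Nat.bijective_iff_injective_and_card φ).2 ⟨hinj, hG.symm⟩
  exact ⟨MulEquiv.ofBijective φ hbij, fun x => by
    rw [MulEquiv.ofBijective_apply, hφ]; exact hfD x⟩

end Cfsg.Agent.ThreeTrans.Y342
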