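import Cfsg.Agent.ThreeTrans.Y342.Layer
import Cfsg.Agent.ThreeTrans.InvolM23
import Cfsg.Agent.ThreeTrans.Y332.Config

/-!
# Members in type M(23) with the pattern of the graph with arms of lengths three, four and two

`exists_cfg`: there are a member `w`, nine members `a, …, i` of its layer and a member `j` moving `w`
and `g` only.
-/

set_option autoImplicit false

open Cfsg Cfsg.Agent.Classical Cfsg.Agent.Classical.Herm Module

universe u

namespace Cfsg.Agent.ThreeTrans.Y342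

open SixChain

variable {G : Type u} [Group G] [Finite G] {D : Set G} {X : Type u} [Group X] [Finite X] {E : Set X}
  (hD : IsThreeTranspositionGroup D) (hE : IsThreeTranspositionGroup E) (h22 : IsOfTypeM22 X E)
  (hcov : ∀ b ∈ D, Cover23 D E b)

include hD hE h22 hcov

theorem exists_psi {t : G} (ht : t ∈ D) : ∃ ψ : G → X, SetIso (dperp D t) E ψ := by
  obtain ⟨χ, ψ, -, -, -, h⟩ := (hcov t ht).maps
  exact ⟨ψ, h⟩

/-- Coordinates on the members centralising a commuting pair. -/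
theorem exists_frame_side {t w : G} (ht : t ∈ D) (hw : w ∈ dperp D t) {q : Fin 4 → G}
    (hq : ∀ i, q i ∈ dperp (dperp D t) w) (hqq : ∀ i j, Commute (q i) (q j) ↔ ¬ Adj i j) {u : G}
    (hu : u ∈ dperp (dperp D t) w) (huq : ∀ i, Commute u (q i)) :
    ∃ (F : Type) (_ : Field F) (θ : F →+* F) (tp : UModel.Pt (hermB 6 θ) → G) (k : F)
      (e : Fin 6 → Fin 6 → F) (f : G), UModel.Space (hermB 6 θ) ∧
      UModel.Model (hermB 6 θ) (dperp (dperp D t) w) tp ∧ Frame (hermB 6 θ) k e ∧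
      ∀ j : Fin 6, ∃ v : UModel.Pt (hermB 6 θ), v.1 = e j ∧
        tp v = ![q 0, q 1, q 2, q 3, u, f] j := by
  obtain ⟨ψ, hψ⟩ := exists_psi hD hE h22 hcov ht
  have hr := hψ.restrict hw
  obtain ⟨F, _, θ, hF4, hB, hmod⟩ := layer_model hE h22
  obtain ⟨tp0, hM0⟩ := hmod _ (hψ.bij.mapsTo hw)
  obtain ⟨tp, hM⟩ := hr.model (((closedSet_of_group hD).dperp t).dperp w) hM0
  obtain ⟨f', hf', hfq, hfu⟩ := exists_perp_point hE h22 (hψ.bij.mapsTo hw) (q := fun i => ψ (q i))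
    (fun i => hr.bij.mapsTo (hq i))
    (fun i j => (hr.comm _ (hq i) _ (hq j)).trans (hqq i j)) (hr.bij.mapsTo hu)
    (fun i => (hr.comm _ hu _ (hq i)).2 (huq i))
  obtain ⟨f, hf, rfl⟩ := hr.bij.surjOn hf'
  obtain ⟨k, e, hFr, hpts⟩ := frame_points hB hF4 hM hq hqq hu huq hf
    (fun i => (hr.comm _ hf _ (hq i)).1 (hfq i)) fun h => hfu ((hr.comm _ hf _ hu).2 h)
  exact ⟨F, inferInstance, θ, tp, k, e, f, hB, hM, hFr, hpts⟩

/-- The members centralising a commuting pair and a third member are listed. -/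
theorem listed_side {t w j : G} (ht : t ∈ D) (hw : w ∈ dperp D t) (hj : j ∈ dperp D t)
    (hwj : ¬ Commute w j) {F : Type} [Field F] {θ : F →+* F} {tp : UModel.Pt (hermB 6 θ) → G}
    (hB : UModel.Space (hermB 6 θ)) (hM : UModel.Model (hermB 6 θ) (dperp (dperp D t) w) tp)
    {k : F} {e : Fin 6 → Fin 6 → F} (hFr : Frame (hermB 6 θ) k e) {q : Fin 4 → G}
    (hq : ∀ i, q i ∈ dperp (dperp D t) w ∧ Commute j (q i)) {u : G}
    (hu : u ∈ dperp (dperp D t) w ∧ Commute j u) {f : G}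
    (hpts : ∀ l : Fin 6, ∃ v : UModel.Pt (hermB 6 θ), v.1 = e l ∧
      tp v = ![q 0, q 1, q 2, q 3, u, f] l) :
    ∃ n ∈ [20, 34, 48], Listed {y | y ∈ dperp (dperp D t) w ∧ Commute j y} tp k e n := by
  obtain ⟨ψ, hψ⟩ := exists_psi hD hE h22 hcov ht
  have hr := hψ.restrict hw
  have hwj' : ¬ Commute (ψ w) (ψ j) := fun h => hwj ((hψ.comm w hw j hj).1 h)
  have hW : ∀ y ∈ dperp (dperp D t) w,
      ψ y ∈ pairPerp E (ψ w) (ψ j) ↔ y ∈ {y | y ∈ dperp (dperp D t) w ∧ Commute j y} := fun y hy =>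
    ⟨fun h => ⟨hy, (hψ.comm j hj y hy.1).1 h.2.2⟩, fun h => ⟨hψ.bij.mapsTo hy.1,
      (hψ.comm w hw y hy.1).2 hy.2.2, (hψ.comm j hj y hy.1).2 h.2⟩⟩
  obtain ⟨n, hn, hL⟩ := listed_of hE h22 (hψ.bij.mapsTo hw) (hψ.bij.mapsTo hj) hwj' hB
    (hr.push ((closedSet_of_group hE).dperp _) hM) hFr (q := fun i => ψ (q i))
    (fun i => (hW _ (hq i).1).2 (hq i)) ((hW _ hu.1).2 hu) (f := ψ f) fun l => by
      obtain ⟨v, hv, hvl⟩ := hpts l
      exact ⟨v, hv, by rw [hvl]; fin_cases l <;> rfl⟩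
  exact ⟨n, hn, hL.pull hr hM (fun y hy => hy.1) hW⟩

omit [Group G] [Finite G] hD hE h22 hcov in
theorem adj_self : ∀ x < 9, Y332.adj x x = false := by decide

omit [Group G] [Finite G] hD hE h22 hcov in
theorem adj_symm : ∀ x < 9, ∀ y < 9, Y332.adj x y = Y332.adj y x := by decide

/-- A member `w`, nine members of its layer and a member `j`. -/
theorem exists_cfg {w₀ j₀ : G} (hw₀ : w₀ ∈ D) (hj₀ : j₀ ∈ D) (hwj₀ : ¬ Commute w₀ j₀) :
    ∃ (n : ℕ → G) (w j : G), w ∈ D ∧ j ∈ D ∧ ¬ Commute w j ∧ Y332.Cfg D n ∧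
      (∀ x < 9, n x ∈ dperp D w) ∧ ∀ x < 9, (Commute (n x) j ↔ x ≠ 6) := by
  classical
  have hcl := closedSet_of_group hD
  have hL : ∀ t ∈ D, M22Layer (dperp D t) := layers23 hD hE h22 hcov
  set w := w₀
  set j := j₀
  have hw : w ∈ D := hw₀
  have hj : j ∈ D := hj₀
  have hwj : ¬ Commute w j := hwj₀
  obtain ⟨z, hz, hjz⟩ := Set.nonempty_of_ncard_ne_zero
    (show {v | v ∈ dperp D w ∧ Commute j v}.ncard ≠ 0 by rw [common_351 hD hL hw hj hwj]; norm_num)
  have hwz : w ∈ dperp D z := dperp_symm hw hz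
  have hjz' : j ∈ dperp D z := ⟨hj, fun e => hwj (e ▸ hz.2.2), hjz.symm⟩
  obtain ⟨ψ, hψ⟩ := exists_psi hD hE h22 hcov hz.1
  have hwj' : ¬ Commute (ψ w) (ψ j) := fun h => hwj ((hψ.comm w hwz j hjz').1 h)
  obtain ⟨o', ho', hoo', hoinj', hsec⟩ :=
    second_chain hE h22 (hψ.bij.mapsTo hwz) (hψ.bij.mapsTo hjz') hwj'
  choose o ho hoψ using fun l => hψ.bij.surjOn (ho' l).1
  have hcj : ∀ l, Commute w (o l) ∧ Commute j (o l) := fun l =>
    ⟨(hψ.comm w hwz _ (ho l)).1 (hoψ l ▸ (ho' l).2.1), (hψ.comm j hjz' _ (ho l)).1 (hoψ l ▸ (ho' l).2.2)⟩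
  have hoinj : ∀ {l m : Fin 3}, l ≠ m → o l ≠ o m := fun {l m} h e =>
    h (hoinj' (by rw [← hoψ l, ← hoψ m, e]))
  have hoc : ∀ l m, Commute (o l) (o m) := fun l m =>
    (hψ.comm _ (ho l) _ (ho m)).1 (by rw [hoψ, hoψ]; exact hoo' l m)
  have hoS : ∀ l, o l ∈ dperp D w := fun l =>
    ⟨(ho l).1, fun e => hwj (e ▸ (hcj l).2.symm), (hcj l).1⟩
  set S := dperp D w
  set e := o 0
  set c := o 1
  set a := o 2
  have hS := hL w hw
  have hca : c ∈ dperp S a := ⟨hoS 1, hoinj (by decide), hoc 2 1⟩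
  have hea : e ∈ dperp (dperp S a) c := ⟨⟨hoS 0, hoinj (by decide), hoc 2 0⟩, hoinj (by decide), hoc 1 0⟩
  have hza : z ∈ dperp S a := ⟨hz, (ho 2).2.1.symm, (ho 2).2.2.symm⟩
  set L0 := ln (dperp S a) c e with hL0
  have hLines := hS.lines a (hoS 2)
  -- the further members of the line
  have hwa : w ∈ dperp D a := dperp_symm hw (hoS 2)
  have hja : j ∈ dperp D a := ⟨hj, fun e' => hwj (e' ▸ (hcj 2).1), (hcj 2).2.symm⟩
  obtain ⟨ψa, hψa⟩ := exists_psi hD hE h22 hcov (hoS 2).1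
  have hmov : ∀ v ∈ L0, v ≠ c → v ≠ e → ¬ Commute j v := by
    intro v hv hvc hve hjv
    have hvS : v ∈ dperp (dperp D a) w := by rw [dperp_dperp_comm]; exact hv.1
    have hmem : ∀ {y : G}, y ∈ dperp (dperp D a) w → Commute j y → ψa y ∈ pairPerp E (ψa w) (ψa j) :=
      fun {y} hy hjy => ⟨hψa.bij.mapsTo hy.1, (hψa.comm w hwa y hy.1).2 hy.2.2,
        (hψa.comm j hja y hy.1).2 hjy⟩
    have hcS : c ∈ dperp (dperp D a) w := by rw [dperp_dperp_comm]; exact hca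
    have heS : e ∈ dperp (dperp D a) w := by rw [dperp_dperp_comm]; exact hea.1
    refine hve (hψa.bij.injOn hvS.1 heS.1 (eq_of_line hE h22 (hψa.bij.mapsTo hwa) (hψa.bij.mapsTo hja)
      (fun h => hwj ((hψa.comm w hwa j hja).1 h)) (q := ψa c) (hmem hcS (hcj 1).2) (hmem heS (hcj 0).2)
      (hmem hvS hjv) ((hψa.comm c hcS.1 e heS.1).2 (hoc 1 0))
      (fun h => hea.2.1 (hψa.bij.injOn heS.1 hcS.1 h)) (fun h => hvc (hψa.bij.injOn hvS.1 hcS.1 h)) ?_))
    rw [← (hψa.restrict hwa).ln_image hcS heS, dperp_dperp_comm D a w]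
    exact ⟨v, hv, rfl⟩
  have hzL : z ∉ L0 := fun h => hmov z h (ho 1).2.1.symm (ho 0).2.1.symm hjz
  obtain ⟨x₁, x₂, x₃, h12, h13, h23, hTset⟩ : ∃ x y v, x ≠ y ∧ x ≠ v ∧ y ≠ v ∧
      L0 \ {c, e} = {x, y, v} := Set.ncard_eq_three.1 (by
    have hsub : ({c, e} : Set G) ⊆ L0 := Set.insert_subset_iff.2 ⟨mem_ln_left hca,
      Set.singleton_subset_iff.2 (mem_ln_right hea.1)⟩
    rw [Set.ncard_sdiff hsub (Set.toFinite _), hLines.five c hca e hea,
      Set.ncard_pair (hea.2.1.symm)])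
  set T : Fin 3 → G := ![x₁, x₂, x₃]
  have hTL : ∀ i, T i ∈ L0 ∧ T i ≠ c ∧ T i ≠ e := by
    intro i
    have : T i ∈ L0 \ {c, e} := by rw [hTset]; fin_cases i <;> simp [T]
    simpa [and_assoc, not_or] using this
  have hTinj : ∀ i i', i ≠ i' → T i ≠ T i' := by
    intro i i' h
    fin_cases i <;> fin_cases i' <;> simp [T] at h ⊢ <;> first
      | exact h12 | exact h12.symm | exact h13 | exact h13.symm | exact h23 | exact h23.symm
  have hTz : ∀ i, T i ∈ dperp S z := fun i =>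
    ⟨(hTL i).1.1.1, fun h => hzL (h ▸ (hTL i).1),
      ((hTL i).1.2 z hza (ho 1).2.2 (ho 0).2.2)⟩
  have hTc : ∀ i, Commute (T i) c ∧ Commute (T i) e ∧ Commute (T i) a := fun i =>
    ⟨((hTL i).1.2 c hca (Commute.refl c) (hoc 1 0)).symm,
      ((hTL i).1.2 e hea.1 (hoc 0 1) (Commute.refl e)).symm, (hTL i).1.1.2.2.symm⟩
  have hline : ∀ {p q : G}, p ∈ L0 → q ∈ L0 → p ≠ q → ln (dperp S a) p q = L0 := fun hp hq h =>
    hLines.eq_ln hca hea hp hq h
  -- the two facts about lines seen from `z`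
  have hsee : ∀ {p q : G}, p ∈ L0 → q ∈ L0 → p ≠ q → p ∈ dperp S z → q ∈ dperp S z →
      (∀ r ∈ L0, r ≠ p → r ≠ q → r ∉ ln (dperp S z) p q) ∧ a ∉ ln (dperp S z) p q := by
    intro p q hp hq hpq hpz hqz
    have hpq' : Commute p q := (hLines.pair c hca e hea p hp q hq hpq).1.2.2
    refine ⟨fun r hr hrp hrq hrz => hzL ?_, fun haz => hzL ?_⟩
    · rw [← hline hp hq hpq]
      exact line_moved hS (hoS 2) hz hpz ⟨hqz, hpq.symm, hpq'⟩ hp.1 ⟨hq.1, hpq.symm, hpq'⟩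
        (by rw [hline hp hq hpq]; exact hr) hrp hrq hza.2.1 hrz
    · rw [← hline hp hq hpq]
      exact centre_moved hS (hoS 2) hz hpz ⟨hqz, hpq.symm, hpq'⟩ hp.1 ⟨hq.1, hpq.symm, hpq'⟩
        hza.2.1 haz
  have hcz : c ∈ dperp S z := ⟨hoS 1, (ho 1).2.1, (ho 1).2.2⟩
  have hez : e ∈ dperp S z := ⟨hoS 0, (ho 0).2.1, (ho 0).2.2⟩
  have haz : a ∈ dperp S z := ⟨hoS 2, (ho 2).2.1, (ho 2).2.2⟩
  have hcL : c ∈ L0 := mem_ln_left hca
  have heL : e ∈ L0 := mem_ln_right hea.1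
  have hLz := hS.lines z hz
  have hTa : ∀ i, T i ≠ a := fun i h => (hTL i).1.1.2.1 h
  -- pairs
  have l_ec : ∀ i, T i ∉ ln (dperp S z) e c := fun i =>
    (hsee heL hcL hea.2.1 hez hcz).1 _ (hTL i).1 (hTL i).2.2 (hTL i).2.1
  have l_xa : ∀ i {x : G}, x ∈ L0 → x ∈ dperp S z → T i ≠ x → x ≠ a → Commute x a →
      T i ∉ ln (dperp S z) x a := by
    intro i x hx hxz hne hxa hcom h
    have h' : ln (dperp S z) x (T i) = ln (dperp S z) x a :=
      hLz.eq_ln hxz ⟨haz, hxa.symm, hcom⟩ (mem_ln_left hxz) h hne.symm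
    refine (hsee hx (hTL i).1 hne.symm hxz (hTz i)).2 ?_
    rw [h']
    exact mem_ln_right haz
  have l_oT : ∀ i i', i ≠ i' → ∀ {x : G}, x ∈ L0 → x ∈ dperp S z → T i ≠ x → T i' ≠ x →
      T i' ∉ ln (dperp S z) x (T i) := fun i i' h x hx hxz h1 h2 =>
    (hsee hx (hTL i).1 h1.symm hxz (hTz i)).1 _ (hTL i').1 h2 (hTinj i' i h.symm)
  have l_aT : ∀ i i', i ≠ i' → T i' ∉ ln (dperp S z) a (T i) := by
    intro i i' h hmem
    have hne : T i ≠ T i' := hTinj i i' h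
    have h' : ln (dperp S z) (T i) (T i') = ln (dperp S z) a (T i) :=
      hLz.eq_ln haz ⟨hTz i, hTa i, (hTc i).2.2.symm⟩ (mem_ln_right (hTz i)) hmem hne
    refine (hsee (hTL i).1 (hTL i').1 hne (hTz i) (hTz i')).2 ?_
    rw [h']
    exact mem_ln_left haz
  have hTS : ∀ i, T i ∈ dperp (dperp D z) w := fun i => by rw [dperp_dperp_comm]; exact hTz i
  have hlnψ : ∀ {p q v : G}, p ∈ dperp S z → q ∈ dperp S z → v ∈ dperp S z →
      ψ v ∈ ln (dperp E (ψ w)) (ψ p) (ψ q) → v ∈ ln (dperp S z) p q := by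
    intro p q v hp hq hv h
    have hr := hψ.restrict hwz
    rw [show dperp S z = dperp (dperp D z) w from dperp_dperp_comm D w z] at hp hq hv ⊢
    rw [← hr.ln_image hp hq] at h
    obtain ⟨v', hv', hvv⟩ := h
    rwa [← hr.bij.injOn hv'.1 hv hvv]
  obtain ⟨p', hp', hpp', hp1, hp3, hp5, i₀, hT0⟩ := hsec (fun i => ψ (T i))
    (fun i => (hψ.restrict hwz).bij.mapsTo (hTS i))
    (fun i h => hmov _ (hTL i).1 (hTL i).2.1 (hTL i).2.2 ((hψ.comm j hjz' _ (hTS i).1).1 h.2.2))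
    (fun i l => by
      rw [← hoψ l, hψ.comm _ (hTS i).1 _ (ho l)]
      fin_cases l
      exacts [(hTc i).2.1, (hTc i).1, (hTc i).2.2])
    (fun i l m hlm h => by
      rw [← hoψ l, ← hoψ m] at h
      fin_cases l <;> fin_cases m
      · exact hlm rfl
      · exact l_ec i (hlnψ hez hcz (hTz i) h)
      · exact l_xa i heL hez (hTL i).2.2 (hoinj (by decide)) (hoc 0 2) (hlnψ hez haz (hTz i) h)
      · exact l_ec i (by rw [ln_comm]; exact hlnψ hcz hez (hTz i) h)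
      · exact hlm rfl
      · exact l_xa i hcL hcz (hTL i).2.1 (hoinj (by decide)) (hoc 1 2) (hlnψ hcz haz (hTz i) h)
      · exact l_xa i heL hez (hTL i).2.2 (hoinj (by decide)) (hoc 0 2)
          (by rw [ln_comm]; exact hlnψ haz hez (hTz i) h)
      · exact l_xa i hcL hcz (hTL i).2.1 (hoinj (by decide)) (hoc 1 2)
          (by rw [ln_comm]; exact hlnψ haz hcz (hTz i) h)
      · exact hlm rfl)
    (fun i i' l hii h => by
      rw [← hoψ l] at h
      fin_cases l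
      · exact l_oT i i' hii heL hez (hTL i).2.2 (hTL i').2.2 (hlnψ hez (hTz i) (hTz i') h)
      · exact l_oT i i' hii hcL hcz (hTL i).2.1 (hTL i').2.1 (hlnψ hcz (hTz i) (hTz i') h)
      · exact l_aT i i' hii (hlnψ haz (hTz i) (hTz i') h))
  choose P hP hPψ using fun l => hψ.bij.surjOn (hp' l).1
  set g := T i₀
  have hPw : ∀ l, Commute w (P l) ∧ Commute j (P l) := fun l =>
    ⟨(hψ.comm w hwz _ (hP l)).1 (hPψ l ▸ (hp' l).2.1), (hψ.comm j hjz' _ (hP l)).1 (hPψ l ▸ (hp' l).2.2)⟩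
  have hPP : ∀ l m, Commute (P l) (P m) ↔ ¬ Adj l m := fun l m => by
    rw [← hψ.comm _ (hP l) _ (hP m), hPψ, hPψ]; exact hpp' l m
  have hPg : ∀ l, Commute (P l) g ↔ l ≠ 0 := fun l => by
    rw [← hψ.comm _ (hP l) _ (hTS i₀).1, hPψ]; exact hT0 l
  have hP1 : P 1 = e := hψ.bij.injOn (hP 1) (ho 0) (by rw [hPψ, hp1, hoψ])
  have hP3 : P 3 = c := hψ.bij.injOn (hP 3) (ho 1) (by rw [hPψ, hp3, hoψ])
  have hP5 : P 5 = a := hψ.bij.injOn (hP 5) (ho 2) (by rw [hPψ, hp5, hoψ])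
  set f := P 0
  set b := P 4
  set d := P 2
  have hPS : ∀ l, P l ∈ dperp D w := fun l =>
    ⟨(hP l).1, fun e' => hwj (e' ▸ (hPw l).2.symm), (hPw l).1⟩
  have hgS : g ∈ dperp D w := (hTL i₀).1.1.1
  have hjg : ¬ Commute j g := hmov g (hTL i₀).1 (hTL i₀).2.1 (hTL i₀).2.2
  have hzg : Commute z g := (hTz i₀).2.2
  have hzP : ∀ l, Commute z (P l) := fun l => (hP l).2.2
  -- members of the layer of `a` with the first pattern
  let H : G → Prop := fun y => y ∈ dperp (dperp D a) w ∧ Commute j y ∧ Commute c y ∧ Commute f y ∧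
    ¬ Commute d y ∧ ¬ Commute z y
  have hqa : ∀ i : Fin 4, ![c, d, e, f] i ∈ dperp (dperp D a) w ∧ Commute j (![c, d, e, f] i) := by
    intro i
    have h : ∀ l : Fin 6, (l = 0 ∨ l = 1 ∨ l = 2 ∨ l = 3) →
        P l ∈ dperp (dperp D a) w ∧ Commute j (P l) := fun l hl => by
      refine ⟨?_, (hPw l).2⟩
      rw [dperp_dperp_comm]
      refine ⟨hPS l, fun e' => ?_, ?_⟩
      · obtain ⟨m, hm, hm'⟩ : ∃ m : Fin 6, Adj l m ∧ ¬ Adj 5 m := by
          rcases hl with rfl | rfl | rfl | rfl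
          exacts [⟨1, by simp [Adj]⟩, ⟨0, by simp [Adj]⟩, ⟨1, by simp [Adj]⟩, ⟨2, by simp [Adj]⟩]
        refine (hPP l m).1 ?_ hm
        rw [e', ← hP5]
        exact (hPP 5 m).2 hm'
      · rw [← hP5]
        exact (hPP 5 l).2 (by rcases hl with rfl | rfl | rfl | rfl <;> simp [Adj])
    fin_cases i
    · show c ∈ _ ∧ _; rw [← hP3]; exact h 3 (by simp)
    · exact h 2 (by simp)
    · show e ∈ _ ∧ _; rw [← hP1]; exact h 1 (by simp)
    · exact h 0 (by simp)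
  have hzA : z ∈ dperp (dperp D a) w ∧ Commute j z := ⟨by rw [dperp_dperp_comm]; exact hza, hjz⟩
  obtain ⟨F, _, θ, tp, k, ev, fa, hB, hMa, hFr, hpts⟩ := exists_frame_side hD hE h22 hcov (hoS 2).1 hwa
    (q := ![c, d, e, f]) (fun i => (hqa i).1) (fun i l => by
      show Commute (![c, d, e, f] i) (![c, d, e, f] l) ↔ _
      rw [← hP1, ← hP3]
      fin_cases i <;> fin_cases l <;> simp [d, f, hPP _ _, Adj])
    hzA.1 (fun i => by rw [← hP1, ← hP3]; fin_cases i <;> exact hzP _)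
  obtain ⟨n, hn, hLa⟩ := listed_side hD hE h22 hcov (hoS 2).1 hwa hja hwj hB hMa hFr hqa hzA hpts
  obtain ⟨hc6, hc2⟩ := hLa.ncard_patt1 hMa hFr (p := ![c, d, e, f, z, fa]) (fun l => by
    obtain ⟨v, hv, hvl⟩ := hpts l
    exact ⟨v, hv, by rw [hvl]; fin_cases l <;> rfl⟩) hn
  have hg_e : ∀ y, H y → (Commute g y ↔ Commute e y) := by
    intro y hy
    have hyA : y ∈ dperp S a := by rw [dperp_dperp_comm]; exact hy.1
    refine ⟨fun hgy => ?_, fun hey => ((hTL i₀).1.2 y hyA hy.2.2.1.symm hey.symm).symm⟩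
    have h' : ln (dperp S a) c g = L0 := hline hcL (hTL i₀).1 (hTL i₀).2.1.symm
    have he' : e ∈ ln (dperp S a) c g := h'.symm ▸ heL
    exact (he'.2 y hyA hy.2.2.1.symm hgy.symm).symm
  obtain ⟨h, hh, hhe⟩ : ∃ h, H h ∧ Commute e h := by
    obtain ⟨y, hy⟩ := Set.nonempty_of_ncard_ne_zero (by rw [hc2]; norm_num : _ ≠ 0)
    obtain ⟨⟨h1, h2⟩, ⟨h3, h4, h5, h6⟩, h7⟩ := hy
    exact ⟨y, ⟨h1, h2, h3, h4, h5, h6⟩, h7⟩
  have hhS : h ∈ dperp S a := by rw [dperp_dperp_comm]; exact hh.1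
  have hgh : Commute g h := (hg_e h hh).2 hhe
  -- `h` and `b`
  have hbh : Commute b h := by
    by_contra hbh
    have hfD : f ∈ D := (hP 0).1
    have hwf : w ∈ dperp D f := dperp_symm hw (hPS 0)
    have hjf : j ∈ dperp D f := ⟨hj, fun e' => hwj (e' ▸ (hPS 0).2.2), (hPw 0).2.symm⟩
    have hfg : ¬ Commute f g := fun h' => (hPg 0).1 h' rfl
    have hQ : ∀ {y : G}, y ∈ dperp D w → Commute f y → y ≠ f → y ∈ dperp (dperp D f) w :=
      fun hy h1 h2 => by rw [dperp_dperp_comm]; exact ⟨hy, h2, h1⟩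
    have hne0 : ∀ l : Fin 6, l ≠ 0 → P l ≠ f := fun l hl e' => hl (by
      have : P l = P 0 := e'
      have hcm := hPg l
      rw [this, hPg 0] at hcm
      exact (not_not.1 fun hh' => (hcm.2 hh') rfl))
    have hq : ∀ i : Fin 4, ![a, b, c, d] i ∈ dperp (dperp D f) w ∧ Commute j (![a, b, c, d] i) ∧
        Commute g (![a, b, c, d] i) := by
      intro i
      rw [← hP5, ← hP3]
      fin_cases i
      exacts [⟨hQ (hPS 5) ((hPP 0 5).2 (by simp [Adj])) (hne0 5 (by decide)), (hPw 5).2,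
          ((hPg 5).2 (by decide)).symm⟩,
        ⟨hQ (hPS 4) ((hPP 0 4).2 (by simp [Adj])) (hne0 4 (by decide)), (hPw 4).2,
          ((hPg 4).2 (by decide)).symm⟩,
        ⟨hQ (hPS 3) ((hPP 0 3).2 (by simp [Adj])) (hne0 3 (by decide)), (hPw 3).2,
          ((hPg 3).2 (by decide)).symm⟩,
        ⟨hQ (hPS 2) ((hPP 0 2).2 (by simp [Adj])) (hne0 2 (by decide)), (hPw 2).2,
          ((hPg 2).2 (by decide)).symm⟩]
    have hzQ : z ∈ dperp (dperp D f) w := hQ hz (hzP 0).symm (hP 0).2.1.symm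
    obtain ⟨F, _, θ, tp, k, ev, ff, hB, hMf, hFr, hpts⟩ := exists_frame_side hD hE h22 hcov hfD hwf
      (q := ![a, b, c, d]) (fun i => (hq i).1) (fun i l => by
        show Commute (![a, b, c, d] i) (![a, b, c, d] l) ↔ _
        rw [← hP5, ← hP3]
        fin_cases i <;> fin_cases l <;> simp [b, d, hPP _ _, Adj])
      hzQ (fun i => by rw [← hP5, ← hP3]; fin_cases i <;> exact hzP _)
    obtain ⟨n₁, hn₁, hL₁⟩ := listed_side hD hE h22 hcov hfD hwf hjf hwj hB hMf hFr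
      (fun i => ⟨(hq i).1, (hq i).2.1⟩) ⟨hzQ, hjz⟩ hpts
    obtain ⟨n₂, hn₂, hL₂⟩ := listed_side hD hE h22 hcov hw (hPS 0) hgS hfg hB
      (by rw [dperp_dperp_comm D w f]; exact hMf) hFr
      (fun i => ⟨by rw [dperp_dperp_comm D w f]; exact (hq i).1, (hq i).2.2⟩)
      ⟨by rw [dperp_dperp_comm D w f]; exact hzQ, hzg.symm⟩ hpts
    rw [dperp_dperp_comm D w f] at hL₂
    have hhQ : h ∈ dperp (dperp D f) w := hQ hhS.1 hh.2.2.2.1 fun e' => hh.2.2.2.2.1
      (e' ▸ (hPP 2 0).2 (by simp [Adj]))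
    have heq := hL₁.case_eq hMf hFr (p := ![a, b, c, d, z, ff]) (fun l => by
        obtain ⟨v, hv, hvl⟩ := hpts l
        exact ⟨v, hv, by rw [hvl]; fin_cases l <;> rfl⟩) hL₂ hn₁ hn₂
      (y := h) ⟨hhQ, hh.2.1⟩ ⟨hhQ, hgh⟩ hhS.2.2 hh.2.2.1 hh.2.2.2.2.1 hh.2.2.2.2.2 hbh
    -- then every member with the first pattern commutes with `g`
    have hsub : {y | y ∈ {y | y ∈ dperp (dperp D a) w ∧ Commute j y} ∧ (Commute c y ∧ Commute f y ∧
        ¬ Commute d y ∧ ¬ Commute z y)} ⊆ {y | y ∈ {y | y ∈ dperp (dperp D a) w ∧ Commute j y} ∧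
        (Commute c y ∧ Commute f y ∧ ¬ Commute d y ∧ ¬ Commute z y) ∧ Commute e y} := by
      rintro y ⟨⟨h1, h2⟩, h3, h4, h5, h6⟩
      refine ⟨⟨h1, h2⟩, ⟨h3, h4, h5, h6⟩, ?_⟩
      have hyS : y ∈ dperp S a := by rw [dperp_dperp_comm]; exact h1
      have hy₁ : y ∈ {y | y ∈ dperp (dperp D f) w ∧ Commute j y} :=
        ⟨hQ hyS.1 h4 fun e' => h5 (e' ▸ (hPP 2 0).2 (by simp [Adj])), h2⟩
      exact (hg_e y ⟨h1, h2, h3, h4, h5, h6⟩).1 (heq ▸ hy₁ : y ∈ {y | y ∈ dperp (dperp D f) w ∧ Commute g y}).2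
    have := Set.ncard_le_ncard hsub (Set.toFinite _)
    have hc6' : {y | y ∈ {y | y ∈ dperp (dperp D a) w ∧ Commute j y} ∧ (Commute c y ∧ Commute f y ∧
        ¬ Commute d y ∧ ¬ Commute z y)}.ncard = 6 := hc6
    have hc2' : {y | y ∈ {y | y ∈ dperp (dperp D a) w ∧ Commute j y} ∧ (Commute c y ∧ Commute f y ∧
        ¬ Commute d y ∧ ¬ Commute z y) ∧ Commute e y}.ncard = 2 := hc2
    omega
  refine ⟨fun x => [a, b, c, d, e, f, g, h, z].getD x 1, w, j, hw, hj, hwj, ⟨fun x hx => ?_,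
    fun x hx y hy => ?_⟩, fun x hx => ?_, fun x hx => ?_⟩
  · interval_cases x
    exacts [(ho 2).1, (hP 4).1, (ho 1).1, (hP 2).1, (ho 0).1, (hP 0).1, hgS.1, hhS.1.1, hz.1]
  · have q45 : ¬ Commute b a := by rw [← hP5]; exact fun h' => (hPP 4 5).1 h' (Or.inl rfl)
    have q43 : ¬ Commute b c := by rw [← hP3]; exact fun h' => (hPP 4 3).1 h' (Or.inr rfl)
    have q32 : ¬ Commute c d := by rw [← hP3]; exact fun h' => (hPP 3 2).1 h' (Or.inr rfl)
    have q21 : ¬ Commute d e := by rw [← hP1]; exact fun h' => (hPP 2 1).1 h' (Or.inr rfl)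
    have q10 : ¬ Commute e f := by rw [← hP1]; exact fun h' => (hPP 1 0).1 h' (Or.inr rfl)
    have r53 : Commute a c := hoc 2 1
    have r51 : Commute a e := hoc 2 0
    have r31 : Commute c e := hoc 1 0
    have r52 : Commute a d := by rw [← hP5]; exact (hPP 5 2).2 (by simp [Adj])
    have r50 : Commute a f := by rw [← hP5]; exact (hPP 5 0).2 (by simp [Adj])
    have r42 : Commute b d := (hPP 4 2).2 (by simp [Adj])
    have r41 : Commute b e := by rw [← hP1]; exact (hPP 4 1).2 (by simp [Adj])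
    have r40 : Commute b f := (hPP 4 0).2 (by simp [Adj])
    have r30 : Commute c f := by rw [← hP3]; exact (hPP 3 0).2 (by simp [Adj])
    have r20 : Commute d f := (hPP 2 0).2 (by simp [Adj])
    have g5 : Commute a g := (hTc i₀).2.2.symm
    have g4 : Commute b g := (hPg 4).2 (by decide)
    have g3 : Commute c g := (hTc i₀).1.symm
    have g2 : Commute d g := (hPg 2).2 (by decide)
    have g1 : Commute e g := (hTc i₀).2.1.symm
    have g0 : ¬ Commute f g := fun h' => (hPg 0).1 h' rfl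
    have za : Commute z a := (ho 2).2.2
    have zc : Commute z c := (ho 1).2.2
    have ze : Commute z e := (ho 0).2.2
    have hah : Commute a h := hhS.2.2
    obtain ⟨-, -, hch, hfh, hdh, hzh⟩ := hh
    have zb : Commute z b := hzP 4
    have zd : Commute z d := hzP 2
    have zf : Commute z f := hzP 0
    suffices key : ∀ x y : ℕ, x < y → y < 9 →
        (Commute ([a, b, c, d, e, f, g, h, z].getD x 1) ([a, b, c, d, e, f, g, h, z].getD y 1) ↔
          Y332.adj x y = false) by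
      rcases lt_trichotomy x y with hxy | rfl | hxy
      · exact key x y hxy hy
      · exact iff_of_true (Commute.refl _) (adj_self x hx)
      · rw [Commute.symm_iff, adj_symm x hx y hy]
        exact key y x hxy hx
    intro x y hxy hy
    interval_cases y <;> interval_cases x
    all_goals simp only [List.getD_cons_zero, List.getD_cons_succ]
    all_goals
      first
        | exact iff_of_true (by assumption) rfl
        | exact iff_of_true (Commute.symm (by assumption)) rfl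
        | exact iff_of_false (by assumption) (by decide)
        | exact iff_of_false (mt Commute.symm (by assumption)) (by decide)
  · interval_cases x
    exacts [hoS 2, hPS 4, hoS 1, hPS 2, hoS 0, hPS 0, hgS, hhS.1, hz]
  · interval_cases x
    all_goals simp only [List.getD_cons_zero, List.getD_cons_succ, ne_eq]
    exacts [iff_of_true (hcj 2).2.symm (by norm_num), iff_of_true (hPw 4).2.symm (by norm_num),
      iff_of_true (hcj 1).2.symm (by norm_num), iff_of_true (hPw 2).2.symm (by norm_num),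
      iff_of_true (hcj 0).2.symm (by norm_num), iff_of_true (hPw 0).2.symm (by norm_num),
      iff_of_false (fun h' => hjg h'.symm) (by norm_num), iff_of_true hh.2.1.symm (by norm_num),
      iff_of_true hjz.symm (by norm_num)]

end Cfsg.Agent.ThreeTrans.Y342
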