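import Cfsg.Agent.ThreeTrans.SixChain.Second
import Cfsg.Agent.ThreeTrans.CountM23

/-!
# Facts about layers for the graph with arms of lengths three, four and two
-/

set_option autoImplicit false

open Cfsg Cfsg.Agent.Classical Cfsg.Agent.Classical.Herm Module

namespace Cfsg.Agent.ThreeTrans

variable {G K : Type*} [Group G] [Group K] {F : Type} [Field F] {θ : F →+* F}

/-- A model of a set gives one of an isomorphic image. -/
theorem SetIso.push {S : Set G} {T : Set K} {φ : G → K} (h : SetIso S T φ) (hT : ClosedSet T)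
    {tp : UModel.Pt (hermB 6 θ) → G} (hM : UModel.Model (hermB 6 θ) S tp) :
    UModel.Model (hermB 6 θ) T fun v => φ (tp v) := by
  have hm : ∀ v, tp v ∈ S := UModel.tp_mem hM
  refine ⟨hT, ?_, fun v w => ⟨fun e => ?_, fun e => ?_⟩, fun v w => ?_, fun v w u hu => ?_⟩
  · apply Set.ext
    intro y
    constructor
    · intro hy
      obtain ⟨x, hx, rfl⟩ := h.bij.surjOn hy
      obtain ⟨v, rfl⟩ := UModel.exists_tp hM hx
      exact ⟨v, rfl⟩
    · rintro ⟨v, rfl⟩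
      exact h.bij.mapsTo (hm v)
  · exact (hM.eq_iff v w).1 (h.bij.injOn (hm v) (hm w) e)
  · exact congrArg φ ((hM.eq_iff v w).2 e)
  · rw [h.comm _ (hm v) _ (hm w)]
    exact hM.comm_iff v w
  · rw [← h.conj _ (hm v) _ (hm w), hM.conj v w u hu]

/-- Being listed passes to an isomorphic set. -/
theorem SixChain.Listed.pull {S W : Set G} {T W' : Set K} {φ : G → K} (h : SetIso S T φ)
    {tp : UModel.Pt (hermB 6 θ) → G} (hM : UModel.Model (hermB 6 θ) S tp) (hWS : W ⊆ S)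
    (hW : ∀ y ∈ S, φ y ∈ W' ↔ y ∈ W) {k : F} {e : Fin 6 → Fin 6 → F} {n : ℕ}
    (hL : SixChain.Listed W' (fun v => φ (tp v)) k e n) : SixChain.Listed W tp k e n := by
  refine ⟨fun x hx => ?_, fun y hy => ?_⟩
  · obtain ⟨v, hv, hvW⟩ := hL.1 x hx
    exact ⟨v, hv, (hW _ (UModel.tp_mem hM v)).1 hvW⟩
  · obtain ⟨x, hx, v, hv, hvy⟩ := hL.2 _ ((hW y (hWS hy)).2 hy)
    exact ⟨x, hx, v, hv, h.bij.injOn (UModel.tp_mem hM v) (hWS hy) hvy⟩

variable {S : Set G}

/-- Any two members of a line determine it. -/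
theorem Lines.eq_ln {T : Set G} (hT : Lines T) {p q e f : G} (hp : p ∈ T) (hq : q ∈ dperp T p)
    (he : e ∈ ln T p q) (hf : f ∈ ln T p q) (hne : e ≠ f) : ln T e f = ln T p q :=
  (hT.pair p hp q hq e he f hf hne).2

variable (hS : M22Layer S) {a z p q r : G} (ha : a ∈ S) (hz : z ∈ S) (hzp : p ∈ dperp S z)
  (hzq : q ∈ dperp (dperp S z) p) (hap : p ∈ dperp S a) (haq : q ∈ dperp (dperp S a) p)

include hS ha hz hzp hzq hap haq

omit hzp hzq in
theorem mem_line_step (hza : z ≠ a) (hzp' : z ≠ p) (hzq' : z ≠ q)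
    (hzl : z ∈ ln (dperp S q) a p) : z ∈ ln (dperp S a) p q := by
  have hqS : q ∈ S := haq.1.1
  have haq' : a ∈ dperp S q := dperp_symm ha haq.1
  have hpq' : p ∈ dperp (dperp S q) a :=
    ⟨⟨hap.1, haq.2.1.symm, haq.2.2.symm⟩, hap.2.1, hap.2.2⟩
  have h1 := hS.swap q hqS a haq' p hpq' z hzl hza hzp'
  have h2 := hS.swap p hap.1 q ⟨hqS, haq.2.1, haq.2.2⟩ a
    ⟨⟨ha, hap.2.1.symm, hap.2.2.symm⟩, haq.1.2.1.symm, haq.1.2.2.symm⟩ z h1 hzq' hza
  exact h2

/-- A further point of a line is not on the line seen from an outside point. -/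
theorem line_moved (hr : r ∈ ln (dperp S a) p q) (hrp : r ≠ p) (hrq : r ≠ q) (hza : z ≠ a)
    (hrz : r ∈ ln (dperp S z) p q) : z ∈ ln (dperp S a) p q := by
  have hqS : q ∈ S := haq.1.1
  have hLq := hS.lines q hqS
  have h1 := hS.swap z hz p hzp q hzq r hrz hrp hrq
  have h2 := hS.swap a ha p hap q haq r hr hrp hrq
  have hzq' : z ∈ dperp S q := dperp_symm hz hzq.1
  have hpz : p ∈ dperp (dperp S q) z :=
    ⟨⟨hap.1, hzq.2.1.symm, hzq.2.2.symm⟩, hzp.2.1, hzp.2.2⟩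
  have haq' : a ∈ dperp S q := dperp_symm ha haq.1
  have hpa : p ∈ dperp (dperp S q) a :=
    ⟨⟨hap.1, haq.2.1.symm, haq.2.2.symm⟩, hap.2.1, hap.2.2⟩
  have e1 := hLq.eq_ln hzq' hpz h1 (mem_ln_right hpz.1) hrp
  have e2 := hLq.eq_ln haq' hpa h2 (mem_ln_right hpa.1) hrp
  refine mem_line_step hS ha hz hap haq hza hzp.2.1.symm hzq.1.2.1.symm ?_
  rw [← e2, e1]
  exact mem_ln_left hzq'

/-- The centre of a line is not on a line seen from an outside point. -/
theorem centre_moved (hza : z ≠ a) (haz : a ∈ ln (dperp S z) p q) : z ∈ ln (dperp S a) p q := by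
  have hqS : q ∈ S := haq.1.1
  have h1 := hS.swap z hz p hzp q hzq a haz hap.2.1.symm haq.1.2.1.symm
  have hzq' : z ∈ dperp S q := dperp_symm hz hzq.1
  have hpz : p ∈ dperp (dperp S q) z :=
    ⟨⟨hap.1, hzq.2.1.symm, hzq.2.2.symm⟩, hzp.2.1, hzp.2.2⟩
  have e1 := (hS.lines q hqS).eq_ln hzq' hpz h1 (mem_ln_right hpz.1) hap.2.1.symm
  refine mem_line_step hS ha hz hap haq hza hzp.2.1.symm hzq.1.2.1.symm ?_
  rw [e1]
  exact mem_ln_left hzq'

end Cfsg.Agent.ThreeTrans
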